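import Groth.Agent.L28.SuppCharP.Vanish
import Groth.Agent.L28.Supp.Twist
import Groth.Agent.L28.EtCartan.Frobenius
import Groth.Agent.L27.LimCoh.HMaps
import Groth.Agent.S0103

/-!
Artin–Schreier vanishing of local cohomology with coefficients `ℤ/p`.
-/

set_option autoImplicit false
set_option linter.style.haveILetI false
set_option linter.unusedSectionVars false
set_option backward.isDefEq.respectTransparency.types false

universe u

open CategoryTheory CategoryTheory.Limits AlgebraicGeometry Opposite CategoryTheory.Abelian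
open Groth.L28.Supp Groth.L28.EtCartan
open W4c5etcohweilstudent (artinSchreierEndo)

namespace Groth.L28.SuppCharP

section Seq

variable {Y : Scheme.{u}} (p : ℕ) [hp : Fact p.Prime] (h0 : (p : Γ(Y, ⊤)) = 0)

theorem subsingleton_H_Ga_of_HH (n : ℕ) (h : Subsingleton (Coh.HH Y (Coh.structureModule Y) n)) :
    Subsingleton (EtCoh.H Y (EtCoh.Ga Y) n) := by
  obtain ⟨e⟩ := nonempty_H_Ga Y n
  exact e.toEquiv.subsingleton_congr.2 h

/-- `H^{m+1}(ℤ/p)` vanishes if Artin–Schreier is onto in degree `m` and injective in degree `m + 1`. -/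
theorem subsingleton_H_succ (m : ℕ)
    (hs : Function.Surjective ((EtCoh.HF Y m).map (artinSchreierEndo Y p hp.out h0)))
    (hi : Function.Injective ((EtCoh.HF Y (m + 1)).map (artinSchreierEndo Y p hp.out h0))) :
    Subsingleton (EtCoh.H Y (EtCoh.const Y (ZMod p)) (m + 1)) := by
  have hT := shortExact_asSeq (X := Y) p h0
  refine subsingleton_of_forall_eq 0 fun z => ?_
  have hz : (EtCoh.HF Y (m + 1)).map (constGa p h0) z = 0 := hi (by
    rw [← ConcreteCategory.comp_apply, ← Functor.map_comp, constGa_as, map_zero]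
    haveI : (EtCoh.HF Y (m + 1)).Additive := inferInstanceAs (Sheaf.functorH _ (m + 1)).Additive
    rw [Functor.map_zero]
    rfl)
  rw [Groth.L27.EtSite.HF_map_apply] at hz
  obtain ⟨w, hw⟩ := Ext.covariant_sequence_exact₁ _ hT z hz (n₀ := m) rfl
  obtain ⟨v, hv⟩ := hs w
  rw [← hw, ← hv, Groth.L27.EtSite.HF_map_apply]
  exact (Ext.comp_assoc_of_second_deg_zero _ _ _ _).trans
    ((congrArg (fun r => Ext.comp v r rfl) hT.comp_extClass).trans (Ext.comp_zero _ _ _ _ _))

theorem surjective_as_zero (h : ∀ a : Γ(Y, ⊤), ∃ b, b ^ p - b = a) :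
    Function.Surjective ((EtCoh.HF Y 0).map (artinSchreierEndo Y p hp.out h0)) := fun w => by
  obtain ⟨b, hb⟩ := h (Groth.L27.LimCoh.secEq (EtCoh.Ga Y) w).down
  refine ⟨(Groth.L27.LimCoh.secEq (EtCoh.Ga Y)).symm (ULift.up b), (Groth.L27.LimCoh.secEq (EtCoh.Ga Y)).injective ?_⟩
  rw [Groth.L27.LimCoh.secEq_map, AddEquiv.apply_symm_apply]
  exact ULift.ext _ _ hb

end Seq

variable {X U : Scheme.{u}} (j : U ⟶ X) [IsOpenImmersion j] [EtShriek.JCont j] (p : ℕ) [hp : Fact p.Prime]
  (h0 : (p : Γ(X, ⊤)) = 0)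

include h0 in
theorem injective_res_const (hinj : Function.Injective j.appTop) :
    Function.Injective (res j (EtCoh.const X (ZMod p))) := by
  have hT := shortExact_asSeq (X := X) p h0
  refine (injective_iff_map_eq_zero _).2 fun s hs => ?_
  refine (exact_map (S := secAt (EtCoh.top X)) hT).1 ?_
  refine Eq.trans ?_ (map_zero ((secAt (EtCoh.top X)).map (constGa p h0)).hom).symm
  have e := (NatTrans.naturality_apply (constGa p h0).hom ((EtCore.topIsTerminal X).from (openTop j)).op s).symm.trans
    ((congrArg ((constGa p h0).hom.app (op (openTop j))) hs).trans (map_zero _))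
  have hl : ((EtCore.topIsTerminal X).from (openTop j)).left = j :=
    (Category.comp_id _).symm.trans ((MorphismProperty.Over.w ((EtCore.topIsTerminal X).from (openTop j))).trans
      (Category.id_comp j))
  have e' := congrArg ULift.down e
  refine ULift.ext _ _ (hinj (Eq.trans ?_ (map_zero j.appTop.hom).symm))
  refine Eq.trans ?_ e'
  exact congr($(congrArg Scheme.Hom.appTop hl).hom _).symm

include h0 in
theorem surjective_res_const
    (h : ∀ c : Γ(U, ⊤), c ^ p - c = 0 → ∃ a, a ^ p - a = 0 ∧ j.appTop a = c) :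
    Function.Surjective (res j (EtCoh.const X (ZMod p))) := by
  have hT := shortExact_asSeq (X := X) p h0
  intro t
  have hl : ((EtCore.topIsTerminal X).from (openTop j)).left = j :=
    (Category.comp_id _).symm.trans ((MorphismProperty.Over.w ((EtCore.topIsTerminal X).from (openTop j))).trans
      (Category.id_comp j))
  let c : Γ(U, ⊤) := ((constGa p h0).hom.app (op (openTop j)) t).down
  obtain ⟨a, ha, hac⟩ := h c (congrArg ULift.down (congr(($(constGa_as p h0)).hom.app (op (openTop j)) t)))
  obtain ⟨s, hs⟩ := (exact_map (S := secAt (EtCoh.top X)) hT).2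
    (show (EtCoh.Ga X).obj.obj (op (EtCoh.top X)) from ULift.up a) (ULift.ext _ _ ha)
  refine ⟨s, (exact_map (S := secAt (openTop j)) hT).1 ?_⟩
  refine (NatTrans.naturality_apply (constGa p h0).hom ((EtCore.topIsTerminal X).from (openTop j)).op s).trans ?_
  refine (congrArg ((EtCoh.Ga X).obj.map ((EtCore.topIsTerminal X).from (openTop j)).op) hs).trans ?_
  refine ULift.ext _ _ (Eq.trans ?_ hac)
  exact congr($(congrArg Scheme.Hom.appTop hl).hom a)

/-- the criterion -/
theorem isZero_HY [EtCoh.BCCont j] [IsAffine X] [CharP Γ(X, ⊤) p]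
    (hX : ∀ a : Γ(X, ⊤), ∃ b, b ^ p - b = a) (hinj : Function.Injective j.appTop) (n : ℕ)
    (hsurj : 0 < n → ∀ c : Γ(U, ⊤), c ^ p - c = 0 → ∃ a, a ^ p - a = 0 ∧ j.appTop a = c)
    (hU : ∀ m, m + 1 < n → Subsingleton (EtCoh.H U (EtCoh.const U (ZMod p)) (m + 1))) :
    IsZero ((EtDual.HY j n).obj (EtCoh.const X (ZMod p))) := by
  have h0 : (p : Γ(X, ⊤)) = 0 := CharP.cast_eq_zero _ p
  show IsZero (((suppTop j).rightDerived n).obj (EtCoh.const X (ZMod p)))
  rcases n with _ | n
  · exact isZero_supp_zero j (injective_res_const j p h0 hinj)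
  refine isZero_supp_succ j n _ (surjective_res_const j p h0 (hsurj n.succ_pos)) (fun q _ => ?_) fun q hq => ?_
  · rcases q with _ | q
    · refine subsingleton_H_succ p h0 0 (surjective_as_zero p h0 hX) ?_
      have h1 := Groth.L28.EtCartan.subsingleton_H (X := X) 0 (EtCoh.Ga X) Groth.L28.EtCartan.acyc_Ga
      exact fun a b _ => @Subsingleton.elim _ h1 a b
    · exact Groth.Agent.S0103.result X p (q + 2) (by omega)
  · exact ((EtCoh.HF U (q + 1)).mapIso (restrConst j (ZMod p))).addCommGroupIsoToAddEquiv.toEquiv.subsingleton_congr.2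
      (hU q (by omega))

end Groth.L28.SuppCharP
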