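import Groth.Agent.L04.Koszul.Punctured
import Groth.Agent.L01.Regular
import Groth.Agent.L03.RegularNormal
import Groth.Agent.L04.LC.Basic

/-!
The Frobenius on the algebraic Čech complex of a regular local ring.
-/

set_option autoImplicit false
set_option linter.style.haveILetI false
set_option linter.unusedSectionVars false
set_option backward.isDefEq.respectTransparency.types false

universe u

open CategoryTheory IsLocalRing
open Groth.L04.Koszul Groth.L04.Koszul.Cech

namespace Groth.L28.SuppCharP.Frob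

section Pow

variable {A : Type u} [CommRing A] (B : Type u) [CommRing B] [Algebra A B] (p : ℕ) [Fact p.Prime] [CharP B p]
  {ι : Type u} (f : ι → A)

/-- `p`-th powers in a localisation of an algebra -/
noncomputable def powLoc (S : Submonoid A) (z : LocalizedModule S B) : LocalizedModule S B :=
  LocalizedModule.liftOn z (fun x => LocalizedModule.mk (x.1 ^ p) (x.2 ^ p)) fun x y h => by
    obtain ⟨c, hc⟩ := h
    exact LocalizedModule.mk_eq.2 ⟨c ^ p, by
      simp only [Submonoid.smul_def, SubmonoidClass.coe_pow] at hc ⊢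
      rw [← smul_pow, ← smul_pow, hc, smul_pow, smul_pow]⟩

theorem powLoc_mk (S : Submonoid A) (b : B) (s : S) :
    powLoc B p S (LocalizedModule.mk b s) = LocalizedModule.mk (b ^ p) (s ^ p) :=
  LocalizedModule.liftOn_mk ..

theorem powLoc_mkLin (S : Submonoid A) (b : B) :
    powLoc B p S (LocalizedModule.mkLinearMap S B b) = LocalizedModule.mkLinearMap S B (b ^ p) := by
  rw [LocalizedModule.mkLinearMap_apply, LocalizedModule.mkLinearMap_apply, powLoc_mk, one_pow]

theorem powLoc_add (S : Submonoid A) (z w : LocalizedModule S B) :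
    powLoc B p S (z + w) = powLoc B p S z + powLoc B p S w := by
  induction z, w using LocalizedModule.induction_on₂ with
  | h b b' s t =>
    rw [LocalizedModule.mk_add_mk, powLoc_mk, powLoc_mk, powLoc_mk, LocalizedModule.mk_add_mk, mul_pow,
      add_pow_char]
    simp only [Submonoid.smul_def, SubmonoidClass.coe_pow, smul_pow]

theorem powLoc_smul (S : Submonoid A) (a : A) (z : LocalizedModule S B) :
    powLoc B p S (a • z) = a ^ p • powLoc B p S z := by
  induction z using LocalizedModule.induction_on with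
  | h b s => rw [LocalizedModule.smul'_mk, powLoc_mk, powLoc_mk, LocalizedModule.smul'_mk, smul_pow]

/-- the module of an algebra -/
noncomputable abbrev M : ModuleCat.{u} A := ModuleCat.of A B

theorem powLoc_res {n m : ℕ} {a : Fin (n + 1) → ι} {b : Fin (m + 1) → ι} (h : Refines f (M B) a b)
    (z : loc f (M (A := A) B) a) :
    powLoc B p _ (res h z) = res h (powLoc B p _ z) := by
  obtain ⟨⟨x, s⟩, hs⟩ := IsLocalizedModule.surj (Submonoid.powers (cp f a)) (mkLoc f (M B) a) z
  have hs' : (s : A) • z = mkLoc f (M B) a x := hs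
  refine ((Module.End.isUnit_iff _).1 (units_of_refines h (s ^ p))).1 ?_
  show ((s ^ p : Submonoid.powers (cp f a)) : A) • powLoc B p _ (res h z) =
    ((s ^ p : Submonoid.powers (cp f a)) : A) • res h (powLoc B p _ z)
  rw [SubmonoidClass.coe_pow, ← powLoc_smul, ← map_smul, ← map_smul, ← powLoc_smul, hs', res_mk]
  exact (powLoc_mkLin B p _ x).trans (((congrArg (res h) (powLoc_mkLin B p _ x)).trans (res_mk h _)).symm)

/-- `p`-th powers of cochains -/
noncomputable def Φ (n : ℕ) : ((cx f (M (A := A) B)).X n : Type u) →+ (cx f (M (A := A) B)).X n :=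
  AddMonoidHom.mk' (fun x => mkC f fun a => powLoc B p _ (val f x a)) fun x y => ext_val f fun a => by
    rw [val_mkC, map_add, Pi.add_apply, powLoc_add, map_add, Pi.add_apply, val_mkC, val_mkC]

theorem val_Φ (n : ℕ) (x : (cx f (M (A := A) B)).X n) (a : Fin (n + 1) → ι) :
    val f (Φ B p f n x) a = powLoc B p _ (val f x a) := rfl

theorem Φ_smul (n : ℕ) (c : A) (x : (cx f (M (A := A) B)).X n) : Φ B p f n (c • x) = c ^ p • Φ B p f n x :=
  ext_val f fun a => by
    rw [val_Φ, map_smul, Pi.smul_apply, powLoc_smul, map_smul, Pi.smul_apply, val_Φ]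

theorem d_Φ (n : ℕ) (x : (cx f (M (A := A) B)).X n) :
    (cx f (M B)).d n (n + 1) (Φ B p f n x) = Φ B p f (n + 1) ((cx f (M B)).d n (n + 1) x) := by
  refine ext_val f fun a => ?_
  rw [val_Φ, val_d, val_d]
  let P : loc f (M (A := A) B) a →+ loc f (M (A := A) B) a :=
    AddMonoidHom.mk' (powLoc B p _) (powLoc_add B p _)
  show _ = P _
  rw [map_sum]
  refine Finset.sum_congr rfl fun j _ => ?_
  rw [map_zsmul, val_Φ]
  exact congrArg _ (powLoc_res B p f _ _).symm

end Pow

section Seq

variable {A : Type u} [CommRing A] (B : Type u) [CommRing B] [Algebra A B] {ι : Type u} (f : ι → A) (g : A)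

/-- the quotient -/
abbrev Bq : Type u := B ⧸ Ideal.span {algebraMap A B g}

/-- `0 → B → B → B / g → 0` -/
noncomputable abbrev seq : ShortComplex (ModuleCat.{u} A) :=
  ShortComplex.mk (ModuleCat.ofHom (g • LinearMap.id) : M B ⟶ M B)
    (ModuleCat.ofHom (Ideal.Quotient.mkₐ A (Ideal.span {algebraMap A B g})).toLinearMap : M B ⟶ M (Bq B g))
    (by
      refine ModuleCat.hom_ext (LinearMap.ext fun (x : B) => ?_)
      exact (Ideal.Quotient.eq_zero_iff_mem.2 (Ideal.mem_span_singleton.2 ⟨x, Algebra.smul_def g x⟩) :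
        Ideal.Quotient.mk (Ideal.span {algebraMap A B g}) (g • x) = 0))

theorem seq_shortExact (hg : algebraMap A B g ∈ nonZeroDivisors B) : (seq B g).ShortExact where
  exact := (ShortComplex.moduleCat_exact_iff _).2 fun (x : B) hx => by
    obtain ⟨c, hc⟩ := Ideal.mem_span_singleton.1 ((Ideal.Quotient.eq_zero_iff_mem (I := Ideal.span {algebraMap A B g})).1 hx)
    exact ⟨c, (Algebra.smul_def g c).trans hc.symm⟩
  mono_f := (ModuleCat.mono_iff_injective _).2 fun (x : B) (y : B) h => by
    have h' : g • x = g • y := h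
    rw [Algebra.smul_def, Algebra.smul_def] at h'
    exact (mul_cancel_left_mem_nonZeroDivisors hg).1 h'
  epi_g := (ModuleCat.epi_iff_surjective _).2 Ideal.Quotient.mk_surjective

/-- reduction on cochains -/
noncomputable def π (n : ℕ) : ((cx f (M (A := A) B)).X n : Type u) →ₗ[A] (cx f (M (A := A) (Bq B g))).X n :=
  ((cxMap f (seq B g).g).f n).hom

theorem cxMap_f (n : ℕ) (x : (cx f (M (A := A) B)).X n) : (cxMap f (seq B g).f).f n x = g • x := by
  refine ext_val f fun a => ?_
  rw [map_smul, Pi.smul_apply]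
  refine (val_cxMap f (seq B g).f x a).trans ?_
  exact LinearMap.congr_fun (IsLocalizedModule.ext (Submonoid.powers (cp f a)) (mkLoc f (M B) a)
    (IsLocalizedModule.map_units (mkLoc f (M B) a)) (j := locMap f (seq B g).f a) (k := g • LinearMap.id)
    (LinearMap.ext fun y => (locMap_mk (seq B g).f a y).trans (map_smul (mkLoc f (M B) a) g y))) _

variable (hg : algebraMap A B g ∈ nonZeroDivisors B)

include hg in
theorem eval_exact (n : ℕ) : ((cSeq f (seq B g)).map (HomologicalComplex.eval _ _ n)).ShortExact :=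
  (cSeq_shortExact f (seq_shortExact B g hg)).map_of_exact (HomologicalComplex.eval _ _ n)

include hg in
theorem smul_injective (n : ℕ) {x y : (cx f (M (A := A) B)).X n} (h : g • x = g • y) : x = y := by
  rw [← cxMap_f B f g, ← cxMap_f B f g] at h
  exact (eval_exact B f g hg n).moduleCat_injective_f h

include hg in
theorem π_surjective (n : ℕ) : Function.Surjective (π B f g n) :=
  (eval_exact B f g hg n).moduleCat_surjective_g

include hg in
theorem π_eq_zero (n : ℕ) {x : (cx f (M (A := A) B)).X n} (h : π B f g n x = 0) : ∃ y, g • y = x := by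
  obtain ⟨y, hy⟩ := (ShortComplex.moduleCat_exact_iff _).1 (eval_exact B f g hg n).exact x h
  exact ⟨y, (cxMap_f B f g n y).symm.trans hy⟩

theorem π_smul_self (n : ℕ) (x : (cx f (M (A := A) B)).X n) : π B f g n (g • x) = 0 := by
  rw [← cxMap_f B f g]
  exact congr($((cSeq f (seq B g)).zero).f n x)

theorem π_d (n : ℕ) (x : (cx f (M (A := A) B)).X n) :
    π B f g (n + 1) ((cx f (M B)).d n (n + 1) x) = (cx f (M (Bq B g))).d n (n + 1) (π B f g n x) :=
  (congr($((cxMap f (seq B g).g).comm n (n + 1)) x)).symm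

theorem π_Φ (p : ℕ) [Fact p.Prime] [CharP B p] [CharP (Bq B g) p] (n : ℕ) (x : (cx f (M (A := A) B)).X n) :
    π B f g n (Φ B p f n x) = Φ (Bq B g) p f n (π B f g n x) := by
  refine ext_val f fun a => ?_
  rw [val_Φ]
  refine (val_cxMap f (seq B g).g _ a).trans ?_
  show locMap f (seq B g).g a (powLoc B p _ (val f x a)) = powLoc (Bq B g) p _ (locMap f (seq B g).g a (val f x a))
  generalize val f x a = z
  obtain ⟨⟨b, s⟩, hs⟩ := IsLocalizedModule.surj (Submonoid.powers (cp f a)) (mkLoc f (M B) a) z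
  have hs' : (s : A) • z = mkLoc f (M B) a b := hs
  refine ((Module.End.isUnit_iff _).1 (IsLocalizedModule.map_units (mkLoc f (M (A := A) (Bq B g)) a) (s ^ p))).1 ?_
  rw [Module.algebraMap_end_apply, Module.algebraMap_end_apply]
  rw [SubmonoidClass.coe_pow, ← map_smul, ← powLoc_smul, ← powLoc_smul, ← map_smul, hs', locMap_mk]
  refine (congrArg (locMap f (seq B g).g a) (powLoc_mkLin B p _ b)).trans ((locMap_mk _ _ _).trans ?_)
  exact (congrArg _ (map_pow (Ideal.Quotient.mk (Ideal.span {algebraMap A B g})) b p)).trans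
    (powLoc_mkLin (Bq B g) p _ _).symm

theorem π_aug (b : B) : π B f g 0 (aug f (M B) b) = aug f (M (Bq B g)) (Ideal.Quotient.mk _ b) :=
  cxMap_aug f (seq B g).g b

end Seq

theorem d_aug {A : Type u} [CommRing A] {ι : Type u} (f : ι → A) (N : ModuleCat.{u} A) (m : N) :
    (cx f N).d 0 1 (aug f N m) = 0 := by
  refine ext_val f fun a => ?_
  rw [map_zero, Pi.zero_apply, val_d, Fin.sum_univ_two, val_aug, val_aug, res_mk, res_mk]
  simp

theorem torsion {A : Type u} [CommRing A] [IsNoetherianRing A] (fs : List A) (N : ModuleCat.{u} A) {g : A}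
    (hg : g ∈ Ideal.ofList fs) (q : ℕ) (x : (cx (fam fs) N).X (q + 1))
    (hx : (cx (fam fs) N).d (q + 1) (q + 1 + 1) x = 0) :
    ∃ j y, (cx (fam fs) N).d q (q + 1) y = g ^ j • x := by
  obtain ⟨e₁⟩ := nonempty_HLim_equiv_cx fs N (q + 1) (by omega) (((q + 1 + 1 : ℕ) : ℤ) - fs.length)
    (sub_add_cancel _ _)
  obtain ⟨e₂⟩ := nonempty_H_equiv_HLim fs (q + 1 + 1) N
  obtain ⟨z, rfl⟩ := Groth.L28.HomElt.exists_cycle (K := cx (fam fs) N) (j := q + 1) (k := q + 1 + 1)
    ((ComplexShape.up ℕ).next_eq' rfl) x hx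
  obtain ⟨j, hj⟩ := Groth.L04.LC.isPowerTorsion_H (Ideal.ofList fs) _ N
    ((e₂.trans e₁).symm ((cx (fam fs) N).homologyπ (q + 1) z))
  have h := congrArg (e₂.trans e₁) (hj _ (Ideal.pow_mem_pow hg j))
  rw [map_smul, LinearEquiv.apply_symm_apply, map_zero, ← map_smul] at h
  obtain ⟨y, hy⟩ := (Groth.L28.HomElt.π_eq_zero_iff (i := q) ((ComplexShape.up ℕ).prev_eq' rfl) _).1 h
  exact ⟨j, y, hy.trans (map_smul _ _ _)⟩

section Main

variable {A : Type u} [CommRing A] [IsLocalRing A] [IsNoetherianRing A] (fs : List A) (p : ℕ) [hp : Fact p.Prime]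

/-- the complex of an algebra -/
noncomputable abbrev C (B : Type u) [CommRing B] [Algebra A B] : CochainComplex (ModuleCat.{u} A) ℕ := cx (fam fs) (M B)

/-- vanishing below the top degree -/
structure Good (n : ℕ) (B : Type u) [CommRing B] [Algebra A B] : Prop where
  van : ∀ q, q + 1 < n → ∀ x : (C fs B).X (q + 1), (C fs B).d (q + 1) (q + 1 + 1) x = 0 → ∃ y, (C fs B).d q (q + 1) y = x
  z0 : 1 ≤ n → ∀ x : (C fs B).X 0, (C fs B).d 0 1 x = 0 → ∃ b : B, aug (fam fs) (M B) b = x

theorem good_quot {n : ℕ} (B : Type u) [CommRing B] [Algebra A B] (g : A)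
    (hg : algebraMap A B g ∈ nonZeroDivisors B) (h : Good fs (n + 1) B) : Good fs n (Bq B g) where
  van q hq x hx := by
    obtain ⟨z, rfl⟩ := π_surjective B (fam fs) g hg _ x
    rw [← π_d] at hx
    obtain ⟨t, ht⟩ := π_eq_zero B (fam fs) g hg _ hx
    have htc : (C fs B).d (q + 1 + 1) (q + 1 + 1 + 1) t = 0 := smul_injective B (fam fs) g hg _ (by
      rw [← map_smul, ht, smul_zero, ← ConcreteCategory.comp_apply, HomologicalComplex.d_comp_d]; rfl)
    obtain ⟨w, hw⟩ := h.van (q + 1) (by omega) t htc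
    obtain ⟨v, hv⟩ := h.van q (by omega) (z - g • w) (by rw [map_sub, map_smul, hw, ht, sub_self])
    exact ⟨π B (fam fs) g q v, by rw [← π_d, hv, map_sub, π_smul_self, sub_zero]⟩
  z0 hn x hx := by
    obtain ⟨z, rfl⟩ := π_surjective B (fam fs) g hg _ x
    rw [← π_d] at hx
    obtain ⟨t, ht⟩ := π_eq_zero B (fam fs) g hg _ hx
    have htc : (C fs B).d (0 + 1) (0 + 1 + 1) t = 0 := smul_injective B (fam fs) g hg _ (by
      rw [← map_smul, ht, smul_zero, ← ConcreteCategory.comp_apply, HomologicalComplex.d_comp_d]; rfl)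
    obtain ⟨w, hw⟩ := h.van 0 (by omega) t htc
    obtain ⟨b, hb⟩ := h.z0 (by omega) (z - g • w) (by rw [map_sub, map_smul, hw, ht, sub_self])
    exact ⟨Ideal.Quotient.mk _ b, by rw [← π_aug, hb, map_sub, π_smul_self, sub_zero]⟩

theorem exists_param (n : ℕ) (B : Type u) [CommRing B] [Algebra A B] [IsRegularLocalRing B]
    (hB : Function.Surjective (algebraMap A B)) (hd : ringKrullDim B = (n + 1 : ℕ)) :
    ∃ g : A, g ∈ maximalIdeal A ∧ algebraMap A B g ∈ nonZeroDivisors B ∧ IsRegularLocalRing (Bq B g) ∧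
      ringKrullDim (Bq B g) = (n : ℕ) := by
  haveI := Groth.L01.isDomain_of_regular B
  have hne : ¬ maximalIdeal B ≤ maximalIdeal B ^ 2 := fun h => by
    have h0 : maximalIdeal B = ⊥ := Submodule.eq_bot_of_le_smul_of_le_jacobson_bot (maximalIdeal B) _
      (IsNoetherian.noetherian _) (by rw [smul_eq_mul, ← pow_two]; exact h) (maximalIdeal_le_jacobson _)
    have hF : IsField B := isField_iff_maximalIdeal_eq.2 h0
    letI := hF.toField
    rw [ringKrullDim_eq_zero_of_field] at hd
    have : (0 : ℕ) = n + 1 := by exact_mod_cast hd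
    omega
  obtain ⟨b, hb, hb2⟩ := SetLike.not_le_iff_exists.1 hne
  obtain ⟨g, rfl⟩ := hB b
  obtain ⟨hr, hdim⟩ := Groth.L01.regular_quotient_of_notMem_sq hb hb2
  refine ⟨g, (IsLocalRing.mem_maximalIdeal _).2 fun hu => hb (hu.map _), mem_nonZeroDivisors_of_ne_zero fun h0 =>
    hb2 (h0 ▸ zero_mem _), hr, ?_⟩
  obtain ⟨a, ha⟩ := Groth.L01.exists_dim_eq_nat (R := Bq B g)
  rw [ha, hd] at hdim
  rw [ha]
  have : a + 1 = n + 1 := by exact_mod_cast hdim
  exact_mod_cast Nat.succ.inj this

theorem powLoc_descends {B : Type u} [CommRing B] [Algebra A B] [IsDomain B] [IsIntegrallyClosed B] [CharP B p]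
    {ι : Type u} (f : ι → A) (x : (cx f (M (A := A) B)).X 0) (b : B) (h : Φ B p f 0 x = aug f (M B) b) :
    ∃ v : B, aug f (M B) v = x := by
  have key : ∀ a : Fin 1 → ι, algebraMap A B (cp f a) ≠ 0 → ∃ v, v ^ p = b ∧ mkLoc f (M B) a v = val f x a := by
    intro a ha
    obtain ⟨⟨m, s⟩, hs⟩ := IsLocalizedModule.surj (Submonoid.powers (cp f a)) (mkLoc f (M B) a) (val f x a)
    have hs' : (s : A) • val f x a = mkLoc f (M B) a m := hs
    have hs0 : algebraMap A B s ≠ 0 := by
      obtain ⟨_, k, hk⟩ := s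
      show algebraMap A B _ ≠ 0
      rw [show algebraMap A B _ = algebraMap A B (cp f a ^ k) from congrArg _ hk.symm, map_pow]
      exact pow_ne_zero _ ha
    have e : mkLoc f (M B) a (m ^ p) = mkLoc f (M B) a ((s : A) ^ p • b) := by
      rw [map_smul, ← val_aug f (M := M B) b a, ← h, val_Φ, ← powLoc_smul, hs']
      exact (powLoc_mkLin B p _ m).symm
    obtain ⟨t, ht⟩ := IsLocalizedModule.exists_of_eq (S := Submonoid.powers (cp f a)) e
    have ht0 : algebraMap A B t ≠ 0 := by
      obtain ⟨_, k, hk⟩ := t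
      show algebraMap A B _ ≠ 0
      rw [show algebraMap A B _ = algebraMap A B (cp f a ^ k) from congrArg _ hk.symm, map_pow]
      exact pow_ne_zero _ ha
    simp only [Submonoid.smul_def, Algebra.smul_def, map_pow] at ht
    have hmb := mul_left_cancel₀ ht0 ht
    obtain ⟨v, hv⟩ := (IsIntegrallyClosed.pow_dvd_pow_iff hp.out.ne_zero).1 ⟨b, hmb⟩
    refine ⟨v, ?_, ?_⟩
    · rw [hv, mul_pow] at hmb
      exact mul_left_cancel₀ (pow_ne_zero _ hs0) hmb
    · refine ((Module.End.isUnit_iff _).1 (IsLocalizedModule.map_units (mkLoc f (M (A := A) B) a) s)).1 ?_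
      rw [Module.algebraMap_end_apply, Module.algebraMap_end_apply]
      rw [hs', ← map_smul, Algebra.smul_def, ← hv]
  have triv : ∀ a : Fin 1 → ι, algebraMap A B (cp f a) = 0 → Subsingleton (loc f (M (A := A) B) a) := fun a ha => by
    refine subsingleton_of_forall_eq 0 fun z => inv_pow_smul_injective f (inv_of_dvd a dvd_rfl) 1 ?_
    induction z using LocalizedModule.induction_on with
    | h m s =>
      rw [pow_one, LocalizedModule.smul'_mk, Algebra.smul_def, ha, zero_mul, LocalizedModule.zero_mk]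
  by_cases hA : ∃ a : Fin 1 → ι, algebraMap A B (cp f a) ≠ 0
  · obtain ⟨a₀, ha₀⟩ := hA
    obtain ⟨v, hv, -⟩ := key a₀ ha₀
    refine ⟨v, ext_val f fun a => ?_⟩
    rw [val_aug]
    by_cases ha : algebraMap A B (cp f a) = 0
    · exact @Subsingleton.elim _ (triv a ha) _ _
    · obtain ⟨w, hw, hw'⟩ := key a ha
      rw [← hw', frobenius_inj B p (show frobenius B p v = frobenius B p w from hv.trans hw.symm)]
  · push Not at hA
    exact ⟨0, ext_val f fun a => @Subsingleton.elim _ (triv a (hA a)) _ _⟩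

/-- a class killed by a parameter whose power is divisible by it vanishes -/
theorem core {n : ℕ} (B : Type u) [CommRing B] [Algebra A B] [CharP B p] (g : A)
    (hg : algebraMap A B g ∈ nonZeroDivisors B) [CharP (Bq B g) p] (h : Good fs (n + 1) B)
    (h0 : n = 0 → IsDomain (Bq B g) ∧ IsIntegrallyClosed (Bq B g))
    (ih : ∀ m, n = m + 1 → ∀ u : (C fs (Bq B g)).X (m + 1), (C fs (Bq B g)).d (m + 1) (m + 1 + 1) u = 0 →
      (∃ y, (C fs (Bq B g)).d m (m + 1) y = Φ (Bq B g) p (fam fs) (m + 1) u) → ∃ v, (C fs (Bq B g)).d m (m + 1) v = u)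
    (x : (C fs B).X (n + 1)) (z : (C fs B).X n) (hz : (C fs B).d n (n + 1) z = g • x) (y : (C fs B).X n)
    (hy : g ^ p • Φ B p (fam fs) (n + 1) x = (C fs B).d n (n + 1) (g • y)) :
    ∃ v, (C fs B).d n (n + 1) v = x := by
  let u := π B (fam fs) g n z
  have hu : (C fs (Bq B g)).d n (n + 1) u = 0 := by rw [← π_d, hz, π_smul_self]
  let c := Φ B p (fam fs) n z - g • y
  have hc : (C fs B).d n (n + 1) c = 0 := by
    rw [map_sub, d_Φ, hz, Φ_smul, hy, sub_self]
  have hcu : π B (fam fs) g n c = Φ (Bq B g) p (fam fs) n u := by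
    rw [map_sub, π_smul_self, sub_zero, π_Φ]
  suffices H : ∃ z', (C fs B).d n (n + 1) z' = 0 ∧ π B (fam fs) g n z' = u by
    obtain ⟨z', hz', hzu⟩ := H
    obtain ⟨t, ht⟩ := π_eq_zero B (fam fs) g hg n (x := z - z') (by rw [map_sub, hzu, sub_self])
    exact ⟨t, smul_injective B (fam fs) g hg _ (by rw [← map_smul, ht, map_sub, hz, hz', sub_zero])⟩
  rcases n with _ | m
  · obtain ⟨hD, hI⟩ := h0 rfl
    obtain ⟨b, hb⟩ := h.z0 le_rfl c hc
    obtain ⟨v, hv⟩ := powLoc_descends p (fam fs) u (Ideal.Quotient.mk _ b) (by rw [← π_aug, hb, hcu])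
    obtain ⟨v', rfl⟩ := Ideal.Quotient.mk_surjective v
    exact ⟨aug (fam fs) (M B) v', d_aug _ _ _, (π_aug B (fam fs) g v').trans hv⟩
  · obtain ⟨w, hw⟩ := h.van m (by omega) c hc
    obtain ⟨v, hv⟩ := ih m rfl u hu ⟨π B (fam fs) g m w, by rw [← π_d, hw, hcu]⟩
    obtain ⟨v', rfl⟩ := π_surjective B (fam fs) g hg m v
    refine ⟨(C fs B).d m (m + 1) v', ?_, (π_d B (fam fs) g m v').trans hv⟩
    rw [← ConcreteCategory.comp_apply, HomologicalComplex.d_comp_d]; rfl

theorem charP_bq (B : Type u) [CommRing B] [Algebra A B] [CharP B p] (g : A) [Nontrivial (Bq B g)] :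
    CharP (Bq B g) p :=
  (CharP.charP_iff_prime_eq_zero hp.out).2 (by
    rw [← map_natCast (Ideal.Quotient.mk (Ideal.span {algebraMap A B g})), CharP.cast_eq_zero, map_zero])

theorem injective (hfs : maximalIdeal A ≤ Ideal.ofList fs) :
    ∀ (n : ℕ) (B : Type u) [CommRing B] [Algebra A B] [IsRegularLocalRing B] [CharP B p],
      Function.Surjective (algebraMap A B) → ringKrullDim B = (n + 1 + 1 : ℕ) → Good fs (n + 1) B →
      ∀ x : (C fs B).X (n + 1), (C fs B).d (n + 1) (n + 1 + 1) x = 0 →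
        (∃ y, (C fs B).d n (n + 1) y = Φ B p (fam fs) (n + 1) x) → ∃ v, (C fs B).d n (n + 1) v = x := by
  intro n
  induction n using Nat.strong_induction_on with
  | _ n IH =>
  intro B _ _ _ _ hsurj hd hG x hx ⟨y, hy⟩
  obtain ⟨g, hgm, hg, hreg, hdim⟩ := exists_param (n + 1) B hsurj hd
  haveI := hreg
  haveI := charP_bq p B g
  obtain ⟨j, w, hw⟩ := torsion fs (M B) (hfs hgm) n x hx
  induction j generalizing w with
  | zero => exact ⟨w, by rw [hw, pow_zero, one_smul]⟩
  | succ j ihj =>
    obtain ⟨v, hv⟩ := core fs p B g hg hG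
      (fun _ => ⟨Groth.L01.isDomain_of_regular _, Groth.L03.RegularNormal.isIntegrallyClosed _⟩)
      (fun m hm u hu hv => IH m (by omega) (Bq B g) (Ideal.Quotient.mk_surjective.comp hsurj)
        (by rw [hdim]; exact_mod_cast congrArg Nat.succ hm) (hm ▸ good_quot fs B g hg hG) u hu hv)
      (g ^ j • x) w (by rw [hw, smul_smul, pow_succ'])
      (g ^ (p - 1) • (g ^ j) ^ p • y) (by
        rw [Φ_smul, ← hy, map_smul, map_smul, map_smul, smul_smul, smul_smul, smul_smul]
        refine congrArg (fun c : A => c • _) ?_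
        rw [← pow_succ', Nat.sub_add_cancel hp.out.one_le])
    exact ihj v hv

theorem fixed (hfs : maximalIdeal A ≤ Ideal.ofList fs) (n : ℕ) (B : Type u) [CommRing B] [Algebra A B]
    [IsRegularLocalRing B] [CharP B p] (hsurj : Function.Surjective (algebraMap A B))
    (hd : ringKrullDim B = (n + 1 + 1 : ℕ)) (hG : Good fs (n + 1) B)
    (x : (C fs B).X (n + 1)) (hx : (C fs B).d (n + 1) (n + 1 + 1) x = 0)
    (hF : ∃ y, (C fs B).d n (n + 1) y = Φ B p (fam fs) (n + 1) x - x) : ∃ v, (C fs B).d n (n + 1) v = x := by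
  obtain ⟨g, hgm, hg, hreg, hdim⟩ := exists_param (n + 1) B hsurj hd
  haveI := hreg
  haveI := charP_bq p B g
  obtain ⟨y, hy⟩ := hF
  obtain ⟨j, w, hw⟩ := torsion fs (M B) (hfs hgm) n x hx
  induction j generalizing w with
  | zero => exact ⟨w, by rw [hw, pow_zero, one_smul]⟩
  | succ j ihj =>
    have h2 := hp.out.two_le
    rcases j with _ | j
    · refine core fs p B g hg hG
        (fun _ => ⟨Groth.L01.isDomain_of_regular _, Groth.L03.RegularNormal.isIntegrallyClosed _⟩)
        (fun m hm u hu hv => injective fs p hfs m (Bq B g) (Ideal.Quotient.mk_surjective.comp hsurj)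
          (by rw [hdim]; exact_mod_cast congrArg Nat.succ hm) (hm ▸ good_quot fs B g hg hG) u hu hv)
        x w (by rw [hw, pow_one]) (g ^ (p - 2) • w + g ^ (p - 1) • y) ?_
      rw [smul_add, map_add, smul_smul, smul_smul, ← pow_succ', ← pow_succ', show p - 1 + 1 = p by omega,
        show p - 2 + 1 = p - 1 by omega, map_smul, map_smul, hy, hw, pow_one, smul_smul, ← pow_succ,
        show p - 1 + 1 = p by omega, smul_sub, add_sub_cancel]
    · obtain ⟨v, hv⟩ := injective fs p hfs n B hsurj hd hG (g ^ (j + 1) • x)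
        (by rw [map_smul, hx, smul_zero])
        ⟨g ^ ((j + 1) * p) • y + g ^ ((j + 1) * p - (j + 1 + 1)) • w, by
          have hle : j + 1 + 1 ≤ (j + 1) * p := by nlinarith
          rw [map_add, map_smul, map_smul, hy, hw, smul_smul, ← pow_add, Nat.sub_add_cancel hle,
            ← smul_add, sub_add_cancel, Φ_smul, pow_mul]⟩
      exact ihj v hv

end Main

end Groth.L28.SuppCharP.Frob
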