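import Groth.Agent.L28.SuppCharP.AS
import Groth.Agent.L10.RestrCompl
import Groth.Agent.L04.Koszul.Punctured
import Groth.Agent.L04.LC.Depth
import Groth.Prelude.Def_FEt
import Groth.Prelude.Def_EGA4c

/-!
The punctured spectrum of a strictly henselian local ring in characteristic `p`.
-/

set_option autoImplicit false
set_option linter.style.haveILetI false
set_option linter.unusedSectionVars false
set_option backward.isDefEq.respectTransparency.types false

universe u

open CategoryTheory CategoryTheory.Limits AlgebraicGeometry Opposite IsLocalRing Polynomial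
open Groth.L28.Supp Groth.L28.EtCartan

namespace Groth.L28.SuppCharP

theorem exists_as_root (p : ℕ) [hp : Fact p.Prime] (R : Type u) [CommRing R] [HenselianLocalRing R]
    [IsSepClosed (ResidueField R)] [CharP R p] (a : R) : ∃ b : R, b ^ p - b = a := by
  have hp1 : 1 < p := hp.out.one_lt
  let g : (ResidueField R)[X] := X ^ p - X - C (residue R a)
  have hcast : ((p : ResidueField R)) = 0 := by
    rw [← map_natCast (residue R), CharP.cast_eq_zero, map_zero]
  have hder : derivative g = -1 := by
    simp [g, derivative_X_pow, hcast]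
  have hg : g.natDegree = p := by
    rw [show g = X ^ p - (X + C (residue R a)) by ring, natDegree_sub_eq_left_of_natDegree_lt, natDegree_X_pow]
    rwa [natDegree_X_pow, natDegree_X_add_C]
  have hsep : g.Separable := ⟨0, -1, by rw [hder]; ring⟩
  obtain ⟨x, hx⟩ := IsSepClosed.exists_root g (fun h => by
    rw [natDegree_eq_of_degree_eq_some (n := 0) (by simpa using h)] at hg; exact hp.out.ne_zero hg.symm) hsep
  obtain ⟨a₀, rfl⟩ := residue_surjective x
  have hfm : (X ^ p - X - C a : R[X]).Monic := by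
    rw [show (X ^ p - X - C a : R[X]) = X ^ p - (X + C a) by ring]
    exact monic_X_pow_sub ((degree_X_add_C a).trans_lt (by exact_mod_cast hp1))
  obtain ⟨b, hb, -⟩ := HenselianLocalRing.is_henselian (X ^ p - X - C a : R[X]) hfm a₀ (by
    rw [← residue_eq_zero_iff]
    simpa [g, IsRoot] using hx) (by
    simp [derivative_X_pow])
  refine ⟨b, ?_⟩
  simpa [IsRoot, sub_eq_zero] using hb

variable (R : Type u) [CommRing R] [IsLocalRing R]

theorem puncturedSpec_eq : FEt.puncturedSpec R = LocCoh.puncturedOpen R (maximalIdeal R) := by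
  refine TopologicalSpace.Opens.ext (Set.ext fun q => not_congr ?_)
  exact ⟨fun h => (show q = IsLocalRing.closedPoint R from h) ▸ (fun _ hm => hm),
    fun h => PrimeSpectrum.ext (((IsLocalRing.maximalIdeal.isMaximal R).eq_of_le q.2.ne_top h).symm)⟩

theorem injective_appTop [IsNoetherianRing R] (h : Subsingleton (LocCoh.H (maximalIdeal R) 0 R)) :
    Function.Injective (FEt.puncturedSpec R).ι.appTop := by
  have key : ∀ V : (Spec (CommRingCat.of R)).Opens, V = EGA4.openCompl R (maximalIdeal R) →
      Function.Injective ((Spec (CommRingCat.of R)).presheaf.map (homOfLE (le_top : V ≤ ⊤)).op) := by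
    rintro V rfl
    exact (Groth.L10.RestrCompl.injective_restr_iff R (maximalIdeal R) R).2
      ((Groth.L04.LC.subsingleton_H0_iff (maximalIdeal R) R).1 h)
  rw [Scheme.Opens.ι_appTop]
  exact key _ ((FEt.puncturedSpec R).ι_image_top.trans (puncturedSpec_eq R))

theorem bijective_appTop [IsNoetherianRing R] (h : ∀ i < 2, Subsingleton (LocCoh.H (maximalIdeal R) i R)) :
    Function.Bijective (FEt.puncturedSpec R).ι.appTop := by
  have key : ∀ V : (Spec (CommRingCat.of R)).Opens, V = EGA4.openCompl R (maximalIdeal R) →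
      Function.Bijective ((Spec (CommRingCat.of R)).presheaf.map (homOfLE (le_top : V ≤ ⊤)).op) := by
    rintro V rfl
    exact (Groth.L10.RestrCompl.bijective_restr_iff R (maximalIdeal R) R).2
      ((Groth.L04.LC.le_idealDepth_iff_H (maximalIdeal R) R 2).2 h)
  rw [Scheme.Opens.ι_appTop]
  exact key _ ((FEt.puncturedSpec R).ι_image_top.trans (puncturedSpec_eq R))

theorem nonempty_HH_equiv [IsNoetherianRing R] (q : ℕ) (hq : 1 ≤ q) :
    Nonempty (Coh.HH (FEt.puncturedSpec R : Scheme.{u}) (Coh.structureModule _) q ≃+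
      LocCoh.H (maximalIdeal R) (q + 1) R) := by
  rw [puncturedSpec_eq R]
  obtain ⟨e⟩ := Groth.L04.Koszul.Cech.nonempty_hhon_punctured_localCohomology (maximalIdeal R)
    (ModuleCat.of R R) q hq
  let U := LocCoh.puncturedOpen R (maximalIdeal R)
  let i := (Scheme.Modules.restrictFunctor U.ι).mapIso (tildeSelf (R := CommRingCat.of R)) ≪≫
    Scheme.Modules.restrictUnitIso U.ι
  exact ⟨(((Sheaf.functorH _ q).mapIso ((SheafOfModules.toSheaf _).mapIso i)).symm.addCommGroupIsoToAddEquiv).trans e⟩

theorem charP_top (p : ℕ) [CharP R p] : CharP Γ(Spec (CommRingCat.of R), ⊤) p :=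
  charP_of_injective_ringHom (f := (Scheme.ΓSpecIso (CommRingCat.of R)).inv.hom)
    (ConcreteCategory.bijective_of_isIso (Scheme.ΓSpecIso (CommRingCat.of R)).inv).1 p

theorem exists_as_root_top (p : ℕ) [hp : Fact p.Prime] [HenselianLocalRing R] [IsSepClosed (ResidueField R)]
    [CharP R p] (a : Γ(Spec (CommRingCat.of R), ⊤)) : ∃ b, b ^ p - b = a := by
  obtain ⟨a', rfl⟩ := (ConcreteCategory.bijective_of_isIso (Scheme.ΓSpecIso (CommRingCat.of R)).inv).2 a
  obtain ⟨b, rfl⟩ := exists_as_root p R a'
  exact ⟨(Scheme.ΓSpecIso (CommRingCat.of R)).inv.hom b, by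
    rw [← map_pow, ← map_sub]⟩

/-- the vanishing up to degree `i`, given the vanishing of coherent local cohomology and Artin–Schreier injectivity -/
theorem isZero_HY_punctured (p : ℕ) [hp : Fact p.Prime] [IsNoetherianRing R] [HenselianLocalRing R]
    [IsSepClosed (ResidueField R)] [CharP R p] (i : ℕ)
    (hinj : Subsingleton (LocCoh.H (maximalIdeal R) 0 R))
    (hsurj : 0 < i → ∀ c : Γ(FEt.puncturedSpec R, ⊤), c ^ p - c = 0 →
      ∃ a, a ^ p - a = 0 ∧ (FEt.puncturedSpec R).ι.appTop a = c)
    (hH : ∀ k, k < i → Subsingleton (LocCoh.H (maximalIdeal R) k R))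
    (hAS : ∀ m, m + 2 = i → ∀ h0 : (p : Γ(FEt.puncturedSpec R, ⊤)) = 0,
      Function.Injective ((EtCoh.HF (FEt.puncturedSpec R : Scheme.{u}) (m + 1)).map
        (W4c5etcohweilstudent.artinSchreierEndo _ p hp.out h0))) :
    IsZero ((EtDual.HY (FEt.puncturedSpec R).ι i).obj (EtCoh.const (Spec (CommRingCat.of R)) (ZMod p))) := by
  haveI := charP_top R p
  refine isZero_HY _ p (exists_as_root_top R p) (injective_appTop R hinj) i hsurj fun m hm => ?_
  have h0 : (p : Γ(FEt.puncturedSpec R, ⊤)) = 0 := by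
    rw [← map_natCast (FEt.puncturedSpec R).ι.appTop.hom, CharP.cast_eq_zero, map_zero]
  refine subsingleton_H_succ p h0 m ?_ ?_
  · rcases m with _ | m
    · refine surjective_as_zero p h0 fun c => ?_
      obtain ⟨a, rfl⟩ := (bijective_appTop R (fun k hk => hH k (by omega))).2 c
      obtain ⟨b, rfl⟩ := exists_as_root_top R p a
      refine ⟨(FEt.puncturedSpec R).ι.appTop.hom b, ?_⟩
      rw [← map_pow, ← map_sub]
    · obtain ⟨e⟩ := nonempty_HH_equiv R (m + 1) (by omega)
      have h1 := subsingleton_H_Ga_of_HH (Y := (FEt.puncturedSpec R : Scheme.{u})) (m + 1)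
        (e.toEquiv.subsingleton_congr.2 (hH _ (by omega)))
      exact fun w => ⟨0, @Subsingleton.elim _ h1 _ _⟩
  · rcases (show m + 2 ≤ i by omega).lt_or_eq with hlt | heq
    · obtain ⟨e⟩ := nonempty_HH_equiv R (m + 1) (by omega)
      have h1 := subsingleton_H_Ga_of_HH (Y := (FEt.puncturedSpec R : Scheme.{u})) (m + 1)
        (e.toEquiv.subsingleton_congr.2 (hH _ hlt))
      exact fun a b _ => @Subsingleton.elim _ h1 a b
    · exact hAS m heq h0

theorem subsingleton_H_of_lt_depth [IsNoetherianRing R] {k : ℕ} (h : (k : ℕ∞) < LocCoh.depth R R) :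
    Subsingleton (LocCoh.H (maximalIdeal R) k R) :=
  (Groth.L04.LC.le_idealDepth_iff_H (maximalIdeal R) R (k + 1)).1
    (by push_cast; exact Order.add_one_le_of_lt h) k k.lt_succ_self

theorem lt_depth [LocCoh.IsCohenMacaulayLocalRing R] {k : ℕ} (h : (k : WithBot ℕ∞) < ringKrullDim R) :
    (k : ℕ∞) < LocCoh.depth R R := by
  rw [← Module.supportDim_self_eq_ringKrullDim, LocCoh.IsCohenMacaulayLocalRing.supportDim_eq_depth] at h
  exact WithBot.coe_lt_coe.1 h

end Groth.L28.SuppCharP
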