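import Groth.Agent.L28.SuppCharP.Frob
import Groth.Agent.L28.SuppCharP.Punctured
import Groth.Agent.L28.EtCartan.Frobenius
import Groth.Agent.L17.BC.CechNat

/-!
Artin–Schreier is injective on the top cohomology of the structure sheaf of a regular punctured spectrum.
-/

set_option autoImplicit false
set_option linter.style.haveILetI false
set_option linter.unusedSectionVars false
set_option backward.isDefEq.respectTransparency.types false

universe u v

open CategoryTheory CategoryTheory.Limits AlgebraicGeometry Opposite IsLocalRing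
open Groth.L04.Koszul Groth.L04.Koszul.Cech

namespace Groth.L28.SuppCharP

section Ab

variable {K L : CochainComplex AddCommGrpCat.{v} ℕ}

theorem injective_homologyMap (φ : K ⟶ L) (n : ℕ)
    (h : ∀ x : K.X (n + 1), K.d (n + 1) (n + 1 + 1) x = 0 → (∃ y, L.d n (n + 1) y = φ.f (n + 1) x) →
      ∃ y, K.d n (n + 1) y = x) :
    Function.Injective (HomologicalComplex.homologyMap φ (n + 1)) := by
  refine (injective_iff_map_eq_zero _).2 fun c hc => ?_
  obtain ⟨z, rfl⟩ := (AddCommGrpCat.epi_iff_surjective (K.homologyπ (n + 1))).1 inferInstance c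
  have hπ : ∀ (M : CochainComplex AddCommGrpCat.{v} ℕ) (z : M.cycles (n + 1)),
      M.homologyπ (n + 1) z = 0 ↔ ∃ y, M.d n (n + 1) y = M.iCycles (n + 1) z := by
    intro M z
    have hM := ShortComplex.exact_of_g_is_cokernel
      (ShortComplex.mk (M.toCycles n (n + 1)) (M.homologyπ (n + 1)) (M.toCycles_comp_homologyπ n (n + 1)))
      (M.homologyIsCokernel n (n + 1) ((ComplexShape.up ℕ).prev_eq' rfl))
    constructor
    · intro hz
      obtain ⟨y, hy⟩ := (ShortComplex.ab_exact_iff _).1 hM z hz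
      refine ⟨y, ?_⟩
      rw [← M.toCycles_i n (n + 1), ConcreteCategory.comp_apply]
      exact congrArg _ hy
    · rintro ⟨y, hy⟩
      have h1 : M.toCycles n (n + 1) y = z := (AddCommGrpCat.mono_iff_injective _).1 (inferInstance : Mono (M.iCycles (n + 1))) (by
        rw [← ConcreteCategory.comp_apply, M.toCycles_i]; exact hy)
      rw [← h1, ← ConcreteCategory.comp_apply, M.toCycles_comp_homologyπ]
      rfl
  rw [← ConcreteCategory.comp_apply, HomologicalComplex.homologyπ_naturality, ConcreteCategory.comp_apply] at hc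
  obtain ⟨y, hy⟩ := (hπ L _).1 hc
  rw [← ConcreteCategory.comp_apply, HomologicalComplex.cyclesMap_i, ConcreteCategory.comp_apply] at hy
  refine (hπ K z).2 (h _ ?_ ⟨y, hy⟩)
  rw [← ConcreteCategory.comp_apply, K.iCycles_d]
  rfl

end Ab

theorem mem_iInf_fin {X : Type u} [TopologicalSpace X] {n : ℕ} (V : Fin n → TopologicalSpace.Opens X) (x : X) :
    x ∈ ⨅ k, V k ↔ ∀ k, x ∈ V k := by
  rw [← Finset.inf_univ_eq_iInf, ← SetLike.mem_coe, TopologicalSpace.Opens.coe_finset_inf]
  simp [Finset.inf_eq_iInf]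

variable (R : Type u) [CommRing R] [IsLocalRing R] [IsNoetherianRing R] (fs : List R)

/-- the cover of the punctured spectrum -/
noncomputable abbrev cov (i : ULift.{u} (Fin fs.length)) : (FEt.puncturedSpec R : Scheme.{u}).Opens :=
  (FEt.puncturedSpec R).ι ⁻¹ᵁ PrimeSpectrum.basicOpen (fam fs i)

variable (hfs : Ideal.span {a | a ∈ fs} = maximalIdeal R)

include hfs in
theorem basicOpen_le (i : ULift.{u} (Fin fs.length)) :
    (PrimeSpectrum.basicOpen (fam fs i) : (Spec (CommRingCat.of R)).Opens) ≤ FEt.puncturedSpec R := by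
  rw [puncturedSpec_eq R, ← hfs, Cech.puncturedOpen_eq]
  exact le_iSup (fun i : ULift.{u} (Fin fs.length) =>
    (PrimeSpectrum.basicOpen (fam fs i) : (Spec (CommRingCat.of R)).Opens)) i

include hfs in
theorem iSup_cov : ⨆ i, cov R fs i = ⊤ := by
  rw [← (FEt.puncturedSpec R).ι.preimage_iSup]
  have e : FEt.puncturedSpec R = ⨆ i : ULift.{u} (Fin fs.length),
      (PrimeSpectrum.basicOpen (fam fs i) : (Spec (CommRingCat.of R)).Opens) := by
    rw [puncturedSpec_eq R, ← hfs, Cech.puncturedOpen_eq]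
  exact eq_top_iff.2 fun x _ => e.le x.2

include hfs in
theorem image_tup {n : ℕ} (a : Fin (n + 1) → ULift.{u} (Fin fs.length)) :
    (FEt.puncturedSpec R).ι ''ᵁ Groth.L10.Cech.tup (cov R fs) a =
      PrimeSpectrum.basicOpen (cp (fam fs) a) := by
  rw [Groth.L10.Cech.tup_eq_iInf (X := (FEt.puncturedSpec R : Scheme.{u}).toTopCat)]
  refine le_antisymm ?_ ?_
  · rintro _ ⟨x, hx, rfl⟩
    rw [specBasicOpen_prod_eq, Groth.L10.Cech.tup_eq_iInf (X := (Spec (CommRingCat.of R)).toTopCat)]
    exact (mem_iInf_fin _ _).2 fun k => ((mem_iInf_fin _ _).1 hx) k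
  · intro y hy
    replace hy : y ∈ (PrimeSpectrum.basicOpen (cp (fam fs) a) : (Spec (CommRingCat.of R)).Opens) := hy
    rw [specBasicOpen_prod_eq, Groth.L10.Cech.tup_eq_iInf (X := (Spec (CommRingCat.of R)).toTopCat)] at hy
    exact ⟨⟨y, basicOpen_le R fs hfs (a 0) ((mem_iInf_fin _ _).1 hy 0)⟩,
      (mem_iInf_fin _ _).2 fun k => (mem_iInf_fin _ _).1 hy k, rfl⟩

include hfs in
theorem isAffine_cov (n : ℕ) (a : Fin (n + 1) → ULift.{u} (Fin fs.length)) :
    IsAffineOpen (⨅ k, cov R fs (a k)) := by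
  rw [← Groth.L10.Cech.tup_eq_iInf (X := (FEt.puncturedSpec R : Scheme.{u}).toTopCat), ← (Scheme.Hom.isAffineOpen_iff_of_isOpenImmersion (FEt.puncturedSpec R).ι), image_tup R fs hfs]
  exact IsAffineOpen.Spec_basicOpen (R := CommRingCat.of R) _

/-- The Čech data on the punctured spectrum. -/
noncomputable def puncData :
    LocData (X := (FEt.puncturedSpec R : Scheme.{u}).toTopCat) (fam fs) (cov R fs) (Frob.M R) where
  P := (FEt.puncturedSpec R).ι.opensFunctor.op ⋙ (tildeLocData (fam fs) (Frob.M R)).P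
  ρ := (tildeLocData (fam fs) (Frob.M R)).toSect ((FEt.puncturedSpec R).ι ''ᵁ ⊤)
  loc {n} a := by
    have key : ∀ (V W : (Spec (CommRingCat.of R)).Opens) (hVW : V ≤ W),
        V = Groth.L10.Cech.tup (fun i : ULift.{u} (Fin fs.length) =>
          (PrimeSpectrum.basicOpen (fam fs i) : (Spec (CommRingCat.of R)).Opens)) a →
        IsLocalizedModule (Submonoid.powers (cp (fam fs) a))
          (((tildeLocData (fam fs) (Frob.M R)).P.map (homOfLE hVW).op).hom.comp
            ((tildeLocData (fam fs) (Frob.M R)).toSect W)) := by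
      rintro V W hVW rfl
      have e : ((tildeLocData (fam fs) (Frob.M R)).P.map (homOfLE hVW).op).hom.comp
          ((tildeLocData (fam fs) (Frob.M R)).toSect W) = (tildeLocData (fam fs) (Frob.M R)).toSect _ :=
        LinearMap.ext fun m => (tildeLocData (fam fs) (Frob.M R)).toSect_res hVW m
      rw [e]
      exact (tildeLocData (fam fs) (Frob.M R)).loc a
    exact key _ _ _ ((image_tup R fs hfs a).trans (specBasicOpen_prod_eq (fam fs) a))

/-- sections as a ring -/
noncomputable abbrev toRing {n : ℕ} (a : Fin (n + 1) → ULift.{u} (Fin fs.length))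
    (x : (puncData R fs hfs).P.obj (op (Groth.L10.Cech.tup (cov R fs) a))) :
    Γ(FEt.puncturedSpec R, Groth.L10.Cech.tup (cov R fs) a) := x

theorem toRing_smul {n : ℕ} (a : Fin (n + 1) → ULift.{u} (Fin fs.length)) (r : R)
    (x : (puncData R fs hfs).P.obj (op (Groth.L10.Cech.tup (cov R fs) a))) :
    toRing R fs hfs a (r • x) =
      toRing R fs hfs a ((puncData R fs hfs).toSect _ r) * toRing R fs hfs a x := rfl

theorem psi_powLoc (p : ℕ) [Fact p.Prime] [CharP R p] {n : ℕ} (a : Fin (n + 1) → ULift.{u} (Fin fs.length))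
    (z : loc (fam fs) (Frob.M (A := R) R) a) :
    toRing R fs hfs a ((puncData R fs hfs).psi a (Frob.powLoc R p _ z)) =
      toRing R fs hfs a ((puncData R fs hfs).psi a z) ^ p := by
  let D := puncData R fs hfs
  let ρ : R →+* Γ(FEt.puncturedSpec R, Groth.L10.Cech.tup (cov R fs) a) :=
    (((Scheme.ΓSpecIso (CommRingCat.of R)).inv ≫ (Spec (CommRingCat.of R)).presheaf.map
      (homOfLE (le_top : (FEt.puncturedSpec R).ι ''ᵁ Groth.L10.Cech.tup (cov R fs) a ≤ ⊤)).op)).hom
  have hρ : ∀ r, toRing R fs hfs a (D.toSect _ r) = ρ r := fun r => by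
    refine congrArg (toRing R fs hfs a) ((tildeLocData (fam fs) (Frob.M R)).toSect_res _ r) |>.trans ?_
    rfl
  obtain ⟨⟨m, s⟩, hs⟩ := IsLocalizedModule.surj (Submonoid.powers (cp (fam fs) a)) (mkLoc (fam fs) (Frob.M R) a) z
  have hs' : (s : R) • z = mkLoc (fam fs) (Frob.M R) a m := hs
  have h1 : ρ s * toRing R fs hfs a (D.psi a z) = ρ m := by
    rw [← hρ, ← hρ, ← toRing_smul R fs hfs, ← map_smul, hs', D.psi_mk]
  have h2 : ρ ((s : R) ^ p) * toRing R fs hfs a (D.psi a (Frob.powLoc R p _ z)) = ρ (m ^ p) := by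
    rw [← hρ, ← hρ, ← toRing_smul R fs hfs, ← map_smul, ← Frob.powLoc_smul, hs',
      show Frob.powLoc R p _ (mkLoc (fam fs) (Frob.M R) a m) = mkLoc (fam fs) (Frob.M R) a (m ^ p) from
        Frob.powLoc_mkLin R p _ m, D.psi_mk]
  rw [map_pow, map_pow, ← h1, mul_pow] at h2
  refine ((?_ : IsUnit (ρ s ^ p)).mul_right_injective) h2
  refine IsUnit.pow p ?_
  have hu : IsUnit (ρ (cp (fam fs) a)) := by
    have key : ∀ V : (Spec (CommRingCat.of R)).Opens, V = PrimeSpectrum.basicOpen (cp (fam fs) a) →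
        IsUnit (((Scheme.ΓSpecIso (CommRingCat.of R)).inv ≫ (Spec (CommRingCat.of R)).presheaf.map
          (homOfLE (le_top : V ≤ ⊤)).op).hom (cp (fam fs) a)) := by
      rintro V rfl
      have e := basicOpen_eq_of_affine (R := CommRingCat.of R) (cp (fam fs) a)
      have key' : ∀ V : (Spec (CommRingCat.of R)).Opens,
          V = (Spec (CommRingCat.of R)).basicOpen ((Scheme.ΓSpecIso (CommRingCat.of R)).inv.hom (cp (fam fs) a)) →
          IsUnit (((Scheme.ΓSpecIso (CommRingCat.of R)).inv ≫ (Spec (CommRingCat.of R)).presheaf.map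
            (homOfLE (le_top : V ≤ ⊤)).op).hom (cp (fam fs) a)) := by
        rintro V rfl
        exact RingedSpace.isUnit_res_basicOpen _ _
      exact key' _ e.symm
    exact key _ (image_tup R fs hfs a)
  obtain ⟨_, k, rfl⟩ := s
  show IsUnit (ρ (cp (fam fs) a ^ k))
  rw [map_pow]
  exact hu.pow k

include hfs in
theorem good_self (n : ℕ) (hH : ∀ k, k ≤ n → Subsingleton (LocCoh.H (maximalIdeal R) k R)) :
    Frob.Good (A := R) fs n R where
  van q hq x hx := by
    obtain ⟨e₁⟩ := nonempty_HLim_equiv_cx fs (Frob.M (A := R) R) (q + 1) (by omega)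
      (((q + 1 + 1 : ℕ) : ℤ) - fs.length) (sub_add_cancel _ _)
    obtain ⟨e₂⟩ := nonempty_H_equiv_HLim fs (q + 1 + 1) (Frob.M (A := R) R)
    have hs : Subsingleton ((localCohomology (Ideal.ofList fs) (q + 1 + 1)).obj (Frob.M (A := R) R) : Type u) := by
      rw [show Ideal.ofList fs = maximalIdeal R from hfs]
      exact hH _ (by omega)
    obtain ⟨z, rfl⟩ := Groth.L28.HomElt.exists_cycle (K := cx (fam fs) (Frob.M (A := R) R)) (j := q + 1)
      (k := q + 1 + 1) ((ComplexShape.up ℕ).next_eq' rfl) x hx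
    exact (Groth.L28.HomElt.π_eq_zero_iff (i := q) ((ComplexShape.up ℕ).prev_eq' rfl) z).1
      ((e₂.trans e₁).symm.injective (@Subsingleton.elim _ hs _ _))
  z0 hn x hx := by
    obtain ⟨e₁⟩ := nonempty_Z0_quotient_equiv fs (Frob.M (A := R) R)
    obtain ⟨e₂⟩ := nonempty_HLim_equiv_RT fs 1 (Frob.M (A := R) R) (((1 : ℕ) : ℤ) - fs.length) (sub_add_cancel _ _)
    obtain ⟨e₃⟩ := nonempty_H_equiv_HLim fs 1 (Frob.M (A := R) R)
    have hs : Subsingleton ((localCohomology (Ideal.ofList fs) 1).obj (Frob.M (A := R) R) : Type u) := by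
      rw [show Ideal.ofList fs = maximalIdeal R from hfs]
      exact hH _ hn
    have h1 : ∀ z : Z0 (cx (fam fs) (Frob.M (A := R) R)), Submodule.Quotient.mk
        (p := (LinearMap.range (aug (fam fs) (Frob.M (A := R) R))).comap
          (Z0 (cx (fam fs) (Frob.M (A := R) R))).subtype) z = 0 := fun z =>
      (e₁.trans (e₂.symm.trans e₃.symm)).injective (@Subsingleton.elim _ hs _ _)
    exact (Submodule.Quotient.mk_eq_zero _).1 (h1 ⟨x, hx⟩)

theorem frobH_sub {X : Scheme.{u}} (p : ℕ) (hp : p.Prime) (h0 : (p : Γ(X, ⊤)) = 0) (n : ℕ)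
    (x : Coh.HH X (Coh.structureModule X) n) :
    Groth.L28.EtCartan.frobH p hp h0 n x - x =
      Sheaf.H.map (Groth.L28.EtCartan.frobAb p hp h0 - 𝟙 _) n x := by
  rw [Sheaf.H.map_apply, Groth.L28.EtCartan.frobH, Sheaf.H.map_apply,
    sub_eq_add_neg (Groth.L28.EtCartan.frobAb p hp h0), Abelian.Ext.mk₀_add, Abelian.Ext.comp_add,
    Abelian.Ext.mk₀_neg, Abelian.Ext.comp_neg, Abelian.Ext.comp_mk₀_id, sub_eq_add_neg]

/-- Artin–Schreier is injective in the top degree on a regular punctured spectrum -/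
theorem injective_as (R : Type u) [CommRing R] [IsRegularLocalRing R] (p : ℕ) [hp : Fact p.Prime] [CharP R p]
    (n : ℕ) (hd : ringKrullDim R = (n + 1 + 1 : ℕ))
    (hH : ∀ k, k ≤ n + 1 → Subsingleton (LocCoh.H (maximalIdeal R) k R))
    (h0 : (p : Γ(FEt.puncturedSpec R, ⊤)) = 0) :
    Function.Injective ((EtCoh.HF (FEt.puncturedSpec R : Scheme.{u}) (n + 1)).map
      (W4c5etcohweilstudent.artinSchreierEndo _ p hp.out h0)) := by
  obtain ⟨fs, hfs⟩ := exists_list (maximalIdeal R)
  haveI := Groth.L28.EtCartan.zarCont (FEt.puncturedSpec R : Scheme.{u})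
  obtain ⟨e, he⟩ := Groth.L28.EtCartan.exists_H_as (X := (FEt.puncturedSpec R : Scheme.{u})) p hp.out h0 (n + 1)
  let U : Scheme.{u} := (FEt.puncturedSpec R : Scheme.{u})
  let φ := Groth.L28.EtCartan.frobAb (X := U) p hp.out h0 - 𝟙 _
  suffices H : Function.Injective (Sheaf.H.map φ (n + 1)) by
    refine fun a b h => e.symm.injective (H ?_)
    rw [← frobH_sub, ← frobH_sub]
    refine e.injective ?_
    rw [he, he, e.apply_symm_apply, e.apply_symm_apply]
    exact h
  obtain ⟨e', he'⟩ := Groth.L17.BC.CechNat.exists_cechH_HH_natural (X := U) (cov R fs) (iSup_cov R fs hfs)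
    (isAffine_cov R fs hfs) (n + 1)
  have hq : Coh.IsQCoh (Coh.structureModule U) :=
    (Groth.L16.ProperFinite.isCoh_of_isInvertible (Groth.L18.Ample.isInvertible_structureModule U)).1
  suffices H : Function.Injective (HomologicalComplex.homologyMap
      (Groth.L10.Cech.cxMap (π := 𝟭 _) (Y := cov R fs) φ.hom) (n + 1)) by
    intro a b h
    refine (e' _ hq).symm.injective (H ((e' _ hq).injective ?_))
    rw [he' hq hq φ, he' hq hq φ, AddEquiv.apply_symm_apply, AddEquiv.apply_symm_apply]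
    exact h
  refine injective_homologyMap _ n fun x hx ⟨y, hy⟩ => ?_
  let D := puncData R fs hfs
  obtain ⟨x, rfl⟩ := (D.toCx (n + 1)).surjective x
  obtain ⟨y, rfl⟩ := (D.toCx n).surjective y
  have hx' : (cx (fam fs) (Frob.M (A := R) R)).d (n + 1) (n + 1 + 1) x = 0 := (D.toCx (n + 1 + 1)).injective
    ((D.toCx_d (n + 1) x).symm.trans (hx.trans (map_zero _).symm))
  have key : (Groth.L10.Cech.cxMap (π := 𝟭 _) (Y := cov R fs) φ.hom).f (n + 1) (D.toCx (n + 1) x) =
      D.toCx (n + 1) (Frob.Φ R p (fam fs) (n + 1) x - x) := by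
    refine Groth.L10.Cech.co_ext fun a => ?_
    refine (Groth.L10.Cech.co_cxMap φ.hom a (D.toCx (n + 1) x)).trans ((congrArg (φ.hom.app _) (D.co_toCx (n + 1) x a)).trans ?_)
    refine Eq.trans ?_ (D.co_toCx (n + 1) _ a).symm
    rw [map_sub, Pi.sub_apply, Frob.val_Φ]
    refine Eq.trans ?_ (map_sub (D.psi a) _ _).symm
    exact congrArg (· - toRing R fs hfs a (D.psi a (val (fam fs) x a)))
      (psi_powLoc R fs hfs p a (val (fam fs) x a)).symm
  have hy' : (cx (fam fs) (Frob.M (A := R) R)).d n (n + 1) y = Frob.Φ R p (fam fs) (n + 1) x - x :=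
    (D.toCx (n + 1)).injective ((D.toCx_d n y).symm.trans (hy.trans key))
  obtain ⟨v, hv⟩ := Frob.fixed fs p (le_of_eq hfs.symm) n R (fun r => ⟨r, rfl⟩) hd
    (good_self R fs hfs (n + 1) hH) x hx' ⟨y, hy'⟩
  exact ⟨D.toCx n v, (D.toCx_d n v).trans (congrArg (D.toCx (n + 1)) hv)⟩

end Groth.L28.SuppCharP
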