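import Groth.Agent.L28.Supp.Excise
import Groth.Agent.L27.LimCoh.HMaps

/-!
Vanishing of local cohomology groups from vanishing of cohomology of the space and of the open.
-/

set_option autoImplicit false
set_option linter.style.haveILetI false
set_option linter.unusedSectionVars false
set_option backward.isDefEq.respectTransparency.types false

universe u

open CategoryTheory CategoryTheory.Limits AlgebraicGeometry Opposite
open Groth.L28.LocCoh Groth.L28.Supp
open Groth.L27.ExtZero (epsE)

namespace Groth.L28.SuppCharP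

variable {X U : Scheme.{u}} (j : U ⟶ X) [IsOpenImmersion j] [EtShriek.JCont j]

/-- restriction of global sections to the open -/
noncomputable abbrev res (F : EtCoh.Ab X) :
    F.obj.obj (op (EtCoh.top X)) ⟶ F.obj.obj (op (openTop j)) :=
  F.obj.map ((EtCore.topIsTerminal X).from (openTop j)).op

theorem mono_from : Mono ((EtCore.topIsTerminal X).from (openTop j)) := by
  have e : ((EtCore.topIsTerminal X).from (openTop j)).left = j :=
    (Category.comp_id _).symm.trans ((MorphismProperty.Over.w ((EtCore.topIsTerminal X).from (openTop j))).trans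
      (Category.id_comp j))
  haveI : Mono ((EtCore.topIsTerminal X).from (openTop j)).left := by
    rw [e]; exact (inferInstanceAs (Mono j))
  exact ⟨fun p q h => MorphismProperty.Over.Hom.ext
    ((cancel_mono ((EtCore.topIsTerminal X).from (openTop j)).left).1 (congrArg (fun m => m.left) h))⟩

theorem exists_supp_iff (F : EtCoh.Ab X) (s : F.obj.obj (op (EtCoh.top X))) :
    (∃ t, (secAt (EtCoh.top X)).map ((secι j).app F) t = s) ↔ res j F s = 0 := by
  refine (exists_secι_iff j F (EtCoh.top X) s).trans ⟨fun h => ?_, fun h => ?_⟩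
  · exact eq_zero_of_factor ((EtShriek.compEtale j).map (EtCore.bcTopIso j).inv) _ _ h
  · exact eq_zero_of_factor ((EtShriek.compEtale j).map (EtCore.bcTopIso j).hom) _ _ h

theorem isZero_supp_zero {F : EtCoh.Ab X} (h : Function.Injective (res j F)) :
    IsZero (((suppTop j).rightDerived 0).obj F) := by
  haveI : PreservesFiniteLimits (suppTop j) := comp_preservesFiniteLimits _ _
  haveI : Subsingleton ((suppTop j).obj F) := subsingleton_of_forall_eq 0 fun z => by
    apply injective_secι j F (EtCoh.top X)
    rw [map_zero]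
    exact h (((exists_supp_iff j F _).1 ⟨z, rfl⟩).trans (map_zero (res j F).hom).symm)
  exact (AddCommGrpCat.isZero_of_subsingleton _).of_iso ((suppTop j).rightDerivedZeroIsoSelf.app F)

/-- the local cohomology vanishes in degree `n + 1` if global sections surject onto sections over the open and
the cohomology of the space and of the open vanish in the degrees below -/
theorem isZero_supp_succ : ∀ (n : ℕ) (F : EtCoh.Ab X), Function.Surjective (res j F) →
    (∀ q, q ≤ n → Subsingleton (EtCoh.H X F (q + 1))) →
    (∀ q, q < n → Subsingleton (EtCoh.H U ((EtShriek.restrAlong j).obj F) (q + 1))) →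
    IsZero (((suppTop j).rightDerived (n + 1)).obj F) := by
  haveI : PreservesLimitsOfSize.{0, 0} (EtShriek.restrAlong j) := (EtShriek.extZeroAdj j).rightAdjoint_preservesLimits
  haveI : PreservesFiniteLimits (EtShriek.restrAlong j) := PreservesLimitsOfSize.preservesFiniteLimits _
  haveI : PreservesColimitsOfSize.{0, 0} (EtShriek.restrAlong j) :=
    (Groth.L27.ExtZero.restrAdj j).leftAdjoint_preservesColimits
  haveI : PreservesFiniteColimits (EtShriek.restrAlong j) := PreservesColimitsOfSize.preservesFiniteColimits _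
  haveI : (EtShriek.restrAlong j).Additive := Functor.additive_of_preserves_binary_products _
  haveI : PreservesFiniteLimits (suppTop j) := comp_preservesFiniteLimits _ _
  have down : ∀ {Y : Scheme.{u}} {T : ShortComplex (EtCoh.Ab Y)} (_ : T.ShortExact) [Injective T.X₂] (q : ℕ),
      Subsingleton (EtCoh.H Y T.X₁ (q + 2)) → Subsingleton (EtCoh.H Y T.X₃ (q + 1)) := by
    intro Y T hT _ q hq
    refine subsingleton_of_forall_eq 0 fun z => ?_
    obtain ⟨w, rfl⟩ := L27.LimCoh.exists_map_of_δH_eq_zero hT (q + 1) z (@Subsingleton.elim _ hq _ _)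
    rw [show w = 0 from Abelian.Ext.eq_zero_of_injective w]
    exact map_zero _
  have sur : ∀ {Y : Scheme.{u}} {T : ShortComplex (EtCoh.Ab Y)} (_ : T.ShortExact),
      Subsingleton (EtCoh.H Y T.X₁ 1) → Function.Surjective (T.g.hom.app (op (EtCoh.top Y))) := by
    intro Y T hT hq t
    obtain ⟨w, hw⟩ := L27.LimCoh.exists_map_of_δH_eq_zero hT 0 ((L27.LimCoh.secEq _).symm t)
      (@Subsingleton.elim _ hq _ _)
    exact ⟨L27.LimCoh.secEq _ w, (L27.LimCoh.secEq_map _ _).symm.trans
      ((congrArg (L27.LimCoh.secEq T.X₃) hw).trans ((L27.LimCoh.secEq _).apply_symm_apply t))⟩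
  intro n
  induction n with
  | zero =>
    intro F hF hA _
    obtain ⟨T, hT, hI, rfl⟩ := exists_presentation F
    obtain ⟨e⟩ := nonempty_cokernel_zero_iso (suppTop j) hT
    refine IsZero.of_iso ?_ e.symm
    haveI : Epi ((suppTop j).map T.g) := (AddCommGrpCat.epi_iff_surjective _).2 fun z => by
      obtain ⟨a, ha⟩ := sur hT (hA 0 le_rfl) ((secAt (EtCoh.top X)).map ((secι j).app T.X₃) z)
      have hz0 := (exists_supp_iff j T.X₃ _).1 ⟨z, rfl⟩
      have h0 : T.g.hom.app (op (openTop j)) (res j T.X₂ a) = 0 :=
        (NatTrans.naturality_apply T.g.hom _ a).trans ((congrArg (res j T.X₃) ha).trans hz0)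
      obtain ⟨e, he⟩ := (exact_map (S := secAt (openTop j)) hT).2 _ h0
      obtain ⟨x, rfl⟩ := hF e
      have h1 : res j T.X₂ (a - T.f.hom.app _ x) = 0 := by
        rw [map_sub, sub_eq_zero]
        exact he.symm.trans (NatTrans.naturality_apply T.f.hom _ x)
      obtain ⟨y, hy⟩ := (exists_supp_iff j T.X₂ _).2 h1
      refine ⟨y, injective_secι j T.X₃ _ ?_⟩
      refine (secι_nat j T.g _ y).trans ((congrArg ((secAt (EtCoh.top X)).map T.g) hy).trans ?_)
      show T.g.hom.app (op (EtCoh.top X)) (a - T.f.hom.app _ x) = _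
      rw [map_sub, ha, show T.g.hom.app _ (T.f.hom.app _ x) = 0 from congr(($(T.zero)).hom.app _ x), sub_zero]
    exact isZero_cokernel_of_epi _
  | succ n ih =>
    intro F hF hA hB
    obtain ⟨T, hT, hI, rfl⟩ := exists_presentation F
    obtain ⟨e⟩ := nonempty_succ_iso (suppTop j) hT n
    refine IsZero.of_iso ?_ e.symm
    haveI : Injective (T.map (EtShriek.restrAlong j)).X₂ := Groth.L27.ExtZero.injective_restrAlong j T.X₂
    have hT' := hT.map_of_exact (EtShriek.restrAlong j)
    refine ih T.X₃ (fun t => ?_) (fun q hq => down hT q (hA (q + 1) (by omega)))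
      (fun q hq => down hT' q (hB (q + 1) (by omega)))
    obtain ⟨b, hb⟩ := sur hT' (hB 0 (Nat.succ_pos n)) t
    haveI := mono_from j
    haveI : Injective T.X₂.obj := Injective.injective_of_adjoint (sheafificationAdjunction _ AddCommGrpCat.{u + 1}) T.X₂
    obtain ⟨a, ha⟩ := Groth.L28.ProEt.Cech.surjective_res_of_injective.{u + 1} T.X₂.obj ((EtCore.topIsTerminal X).from (openTop j)) b
    exact ⟨T.g.hom.app _ a, (NatTrans.naturality_apply T.g.hom _ a).symm.trans ((congrArg _ ha).trans hb)⟩

end Groth.L28.SuppCharP
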